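import Groth.Agent.Lib.KerId9.Supp
import Groth.Agent.Lib.TwistBC9.Apps
import Groth.Agent.Lib.TwistBC9.Trunc
import Groth.Agent.Lib.BC8.Shriek660
import Groth.Agent.Lib.BC8.RelDual

/-! Slices of a kernel over a thickened closed point. -/

set_option autoImplicit false
set_option linter.style.haveILetI false
set_option linter.unusedSectionVars false
set_option backward.isDefEq.respectTransparency false
set_option backward.isDefEq.respectTransparency.types false
set_option maxHeartbeats 1600000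

universe u

open CategoryTheory CategoryTheory.Limits AlgebraicGeometry CategoryTheory.Pretriangulated MonoidalCategory

attribute [local instance] HasDerivedCategory.standard

noncomputable section

namespace Groth.Agent.PtBd9

open DMon9

attribute [local instance] DBC9.hasRpush

/-- An affine morphism detects the vanishing of each cohomology sheaf. -/
theorem isZero_HD_of_rpush {P Y : Scheme.{u}} (g : P ⟶ Y) [IsAffineHom g] (C : DCoh.D P) (hq : DCoh.IsQCohD C)
    (m : ℤ) (hC : IsZero (DCoh.HD ((DCoh.Rpush g).obj C) m)) : IsZero (DCoh.HD C m) := by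
  have hcov : ∀ y : Y, ∃ (V : Y.Opens), y ∈ V ∧ IsAffineOpen V := fun y => by
    obtain ⟨V, hV, hyV, -⟩ := TopologicalSpace.Opens.isBasis_iff_nbhd.1 Y.isBasis_affineOpens
      (TopologicalSpace.Opens.mem_top y)
    exact ⟨V, hyV, hV⟩
  choose V hyV hV using hcov
  refine DPerf.isZero_of_cover (fun x : P => g ⁻¹ᵁ V (g.base x)) (fun x => ⟨x, hyV _⟩) fun x => ?_
  have ha : IsAffineOpen (g ⁻¹ᵁ V (g.base x)) := (hV _).preimage g
  refine DPush.isZero_restrict_of_sections_affine (hq m) ha ?_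
  have hR : DCoh.IsQCohD ((DCoh.Rpush g).obj C) := DPush.isQCohD_rpush g C hq
  haveI h1 : Subsingleton ((DerivedCategory.singleFunctor Y.Modules m).obj ((DQC.gen Y).obj (V (g.base x))) ⟶
      (DCoh.Rpush g).obj C) := ⟨fun s t => (DQC.bijective_θ _ hR (hV _) m).1 (hC.eq_of_tgt _ _)⟩
  have h := (SitePAdj.bijective_transpose (Scheme.Modules.pullbackPushforwardAdjunction g) (DPush.unit g)
    KInjLib.enoughKInj_of_grothendieck (DPush.isQuasiLiftable_adapted g) (DPush.adapted_gen g (V (g.base x))) m C).1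
  haveI : Subsingleton ((DerivedCategory.singleFunctor P.Modules m).obj ((DQC.gen P).obj (g ⁻¹ᵁ V (g.base x))) ⟶ C) :=
    (((DerivedCategory.singleFunctor P.Modules m).mapIso (DPush.pullGenIso g _)).homCongr
      (Iso.refl C)).subsingleton_congr.2 ⟨fun _ _ => h (h1.elim _ _)⟩
  exact ⟨fun s t => ((DQC.genHom (g ⁻¹ᵁ V (g.base x)) _).symm).injective
    ((DQC.bijective_θ C hq ha m).2.subsingleton.elim _ _)⟩

/-- Pulling back a module along a flat morphism. -/
theorem nonempty_lP_inD_flat {P X : Scheme.{u}} (p : P ⟶ X) [Flat p] (M : X.Modules) :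
    Nonempty ((lP p).obj (DCoh.inD X M) ≅ DCoh.inD P ((Scheme.Modules.pullback p).obj M)) := by
  haveI := KFlat.Sch.hasLpull p
  haveI : ((lP p).obj (DCoh.inD X M)).IsGE 0 := BC8.isGE_lP_of_flat _ 0
  haveI : ((lP p).obj (DCoh.inD X M)).IsLE 0 := TwistBC9.isLE_lP_single p M
  haveI : IsIso ((TwistBC9.cTr p).app M) := (DerivedCategory.isIso_iff P.Modules _).2 fun i => by
    rcases eq_or_ne i 0 with rfl | hi
    · exact TwistBC9.isIso_H0_cTr p M
    have hz : ∀ (Z : DCoh.D P) [Z.IsGE 0] [Z.IsLE 0], IsZero ((DerivedCategory.homologyFunctor P.Modules i).obj Z) :=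
      fun Z _ _ => by
        rcases lt_or_gt_of_ne hi with h | h
        · exact DerivedCategory.isZero_of_isGE Z 0 i h
        · exact DerivedCategory.isZero_of_isLE Z 0 i h
    exact ⟨0, (hz ((lP p).obj (DCoh.inD X M))).eq_of_src _ _,
      (hz (DCoh.inD P ((Scheme.Modules.pullback p).obj M))).eq_of_src _ _⟩
  exact ⟨asIso ((TwistBC9.cTr p).app M)⟩

/-- The kernel functor on the direct image from an affine closed subscheme. -/
theorem nonempty_slice {P X Y T : Scheme.{u}} (p : P ⟶ X) [Flat p] (q : P ⟶ Y) (j : T ⟶ X) [IsClosedImmersion j]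
    (C : DCoh.D P) (hC : DCoh.IsQCohD C)
    [DCoh.HasLTensorMod ((Scheme.Modules.pullback p).obj ((Coh.push j).obj (Coh.structureModule T)))] :
    Nonempty ((DCoh.Rpush q).obj
        ((DCoh.LTensorMod ((Scheme.Modules.pullback p).obj ((Coh.push j).obj (Coh.structureModule T)))).obj C) ≅
      (DCoh.Rpush (Limits.pullback.fst p j ≫ q)).obj ((lP (Limits.pullback.fst p j)).obj C)) := by
  let ι' := Limits.pullback.fst p j
  let π := Limits.pullback.snd p j
  haveI : IsClosedImmersion ι' := MorphismProperty.pullback_fst (P := @IsClosedImmersion) _ _ inferInstance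
  let O : DCoh.D T := DCoh.inD T (Coh.structureModule T)
  have hO : DCoh.IsQCohD O := Exact8.isQCohD_single (M1.isQCoh_structureModule T)
  obtain ⟨rp⟩ := RHom.nonempty_rpushIso j
  let e : DCoh.inD X ((Coh.push j).obj (Coh.structureModule T)) ≅ (DCoh.Rpush j).obj O :=
    (((Scheme.Modules.pushforward j).mapDerivedCategorySingleFunctor 0).app _).symm ≪≫ (rp.app _).symm
  let hsq := (IsPullback.of_hasPullback p j).flip
  let σ := DBC9.σcan hsq.w.symm
  haveI := FMAdj9.good_flat hsq (Or.inr inferInstance) (adjLP j) (adjLP ι') σ O hO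
  let bc : (lP p).obj ((DCoh.Rpush j).obj O) ≅ (DCoh.Rpush ι').obj ((lP π).obj O) :=
    (asIso ((DBC9.bc (adjLP j) (adjLP ι') σ.hom).app O) :)
  let u : (O : DM T) ≅ 𝟙_ (DM T) :=
    ((DerivedCategory.singleFunctorIsoCompQ T.Modules 0).app (Coh.structureModule _) :
      O ≅ (qK _).obj (𝟙_ (KF _)))
  let E : DM (Limits.pullback p j) := (dPull π).obj (O : DM _)
  let uE : E ≅ 𝟙_ (DM _) := (dPull π).mapIso u ≪≫ (Functor.Monoidal.εIso (dPull π)).symm
  haveI := isIso_projT ι' E (isQCohD_lP π hO) (C : DM P) hC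
  let pr : (((rM ι').obj E ⊗ (C : DM P) : DM P) : DCoh.D P) ≅
      (DCoh.Rpush ι').obj ((E ⊗ (dPull ι').obj (C : DM P) : DM _) : DCoh.D _) :=
    (asIso ((projT ι' E).app (C : DM P)) :)
  let w : (E ⊗ (dPull ι').obj (C : DM P) : DM _) ≅ (dPull ι').obj (C : DM P) := whiskerRightIso uE _ ≪≫ λ_ _
  obtain ⟨t⟩ := TwistBC9.nonempty_ltensorMod_iso ((Scheme.Modules.pullback p).obj ((Coh.push j).obj (Coh.structureModule T))) C
  obtain ⟨el⟩ := nonempty_lP_inD_flat p ((Coh.push j).obj (Coh.structureModule T))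
  let A : DM P := TwistBC9.modM ((Scheme.Modules.pullback p).obj ((Coh.push j).obj (Coh.structureModule T)))
  let B : DM P := (rM ι').obj E
  let eAB : A ≅ B := (el.symm ≪≫ (lP p).mapIso e ≪≫ bc :)
  obtain ⟨b⟩ := BoxRes9.nonempty_braid (C : DM P) A
  let m : ((C : DM P) ⊗ A : DM P) ≅ B ⊗ (C : DM P) := b ≪≫ whiskerRightIso eAB _
  exact ⟨(DCoh.Rpush q).mapIso (t ≪≫ (m :) ≪≫ (pr :) ≪≫
    (DCoh.Rpush ι').mapIso (w :)) ≪≫ (FMAdj9.rpushComp ι' q rfl).app _⟩

end Groth.Agent.PtBd9
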