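import Groth.Agent.Lib.DPerf.OneDegree
import Mathlib.RingTheory.Filtration
import Mathlib.LinearAlgebra.TensorProduct.Quotient

/-! Homology detected modulo all powers of an ideal. -/

set_option autoImplicit false
set_option linter.style.haveILetI false
set_option linter.unusedSectionVars false
set_option backward.isDefEq.respectTransparency false
set_option backward.isDefEq.respectTransparency.types false

universe u

open CategoryTheory CategoryTheory.Limits
open scoped TensorProduct

noncomputable section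

namespace Groth.Agent.PtBd9

/-- If every reduction modulo a power of `J ⊆ n` is exact at `i`, cycles are boundaries after localising at `n`. -/
theorem exists_smul_mem_boundaries {R : CommRingCat.{u}} [IsNoetherianRing R] (P : DRing.Cx R) (i : ℤ)
    [Module.Finite R (P.X i)] (J n : Ideal R) (hn : n.IsPrime) (hJ : J ≤ n)
    (h : ∀ e : ℕ, (((DPerf.RankSC.extCx (algebraMap R (R ⧸ J ^ (e + 1)))).obj P)).ExactAt i)
    (z : P.X i) (hz : P.d i (i + 1) z = 0) : ∃ s : R, s ∉ n ∧ ∃ y, P.d (i - 1) i y = s • z := by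
  let B : Submodule R (P.X i) := LinearMap.range (P.d (i - 1) i).hom
  let M := P.X i ⧸ B
  have hmem : ∀ e : ℕ, B.mkQ z ∈ (J ^ e • ⊤ : Submodule R M) := fun e => by
    refine Submodule.smul_mono_left (Ideal.pow_le_pow_right (Nat.le_succ e)) ?_
    let S := R ⧸ J ^ (e + 1)
    have hs : Subsingleton (((DPerf.RankSC.extCx (algebraMap R S)).obj P).homology i) :=
      ModuleCat.subsingleton_of_isZero ((HomologicalComplex.exactAt_iff_isZero_homology _ i).1 (h e))
    have hiff := (DMod.subsingleton_homology_iff ((DPerf.RankSC.extCx (algebraMap R S)).obj P)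
      (i := i - 1) (k := i + 1) (by simp) (by simp)).1 hs
    obtain ⟨y, hy⟩ := hiff ((FlatCxLib.extEquiv S (P.X i)).symm (1 ⊗ₜ z)) (by
      apply (FlatCxLib.extEquiv S (P.X (i + 1))).injective
      refine (FlatCxLib.extEquiv_map _ (P.d i (i + 1)) _).trans ?_
      rw [LinearEquiv.apply_symm_apply, LinearMap.baseChange_tmul]
      exact ((congrArg ((1 : S) ⊗ₜ[R] ·) hz).trans (TensorProduct.tmul_zero _ _)).trans (map_zero _).symm)
    obtain ⟨y₀, hy₀⟩ := TensorProduct.mk_surjective R (P.X (i - 1)) S Ideal.Quotient.mk_surjective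
      (FlatCxLib.extEquiv S (P.X (i - 1)) y)
    have he : (1 : S) ⊗ₜ[R] P.d (i - 1) i y₀ = 1 ⊗ₜ z := by
      have := FlatCxLib.extEquiv_map S (P.d (i - 1) i) y
      rw [← hy₀, TensorProduct.mk_apply, LinearMap.baseChange_tmul] at this
      exact this.symm.trans ((congrArg _ hy).trans (LinearEquiv.apply_symm_apply _ _))
    have he' := congrArg (TensorProduct.quotTensorEquivQuotSMul (P.X i) (J ^ (e + 1))) he
    rw [TensorProduct.quotTensorEquivQuotSMul_mk_one_tmul, TensorProduct.quotTensorEquivQuotSMul_mk_one_tmul,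
      Submodule.Quotient.eq] at he'
    have h1 : B.mkQ (P.d (i - 1) i y₀ - z) ∈ (J ^ (e + 1) • ⊤ : Submodule R M) := by
      have := Submodule.mem_map_of_mem (f := B.mkQ) he'
      rw [Submodule.map_smul''] at this
      exact Submodule.smul_mono le_rfl le_top this
    rw [map_sub, show B.mkQ (P.d (i - 1) i y₀) = 0 from (Submodule.Quotient.mk_eq_zero B).2 ⟨y₀, rfl⟩,
      zero_sub] at h1
    exact (Submodule.neg_mem_iff _).1 h1
  obtain ⟨r, hr⟩ := (Ideal.mem_iInf_smul_pow_eq_bot_iff J (B.mkQ z)).1 (Submodule.mem_iInf _ |>.2 hmem)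
  refine ⟨1 - (r : R), fun h1 => hn.ne_top ((Ideal.eq_top_iff_one n).2 ?_), ?_⟩
  · have := n.add_mem h1 (hJ r.2)
    rwa [sub_add_cancel] at this
  · have h0 : B.mkQ ((1 - (r : R)) • z) = 0 := by
      rw [map_smul, sub_smul, one_smul, hr, sub_self]
    exact (Submodule.Quotient.mk_eq_zero B).1 h0

end Groth.Agent.PtBd9
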