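import Groth.Agent.Lib.PtBd9.Slice
import Groth.Agent.Lib.PtBd9.Alg
import Groth.Agent.Lib.KerId9.Fix

/-! Cohomology sheaves of a perfect object detected on thickened closed fibres. -/

set_option autoImplicit false
set_option linter.style.haveILetI false
set_option linter.unusedSectionVars false
set_option backward.isDefEq.respectTransparency false
set_option backward.isDefEq.respectTransparency.types false
set_option maxHeartbeats 1600000

universe u

open CategoryTheory CategoryTheory.Limits AlgebraicGeometry CategoryTheory.Pretriangulated MonoidalCategory Opposite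

attribute [local instance] HasDerivedCategory.standard

noncomputable section

namespace Groth.Agent.PtBd9

open DMon9 DPerf.RankSC
open DPerf (tildeX)

attribute [local instance] DBC9.hasRpush

theorem comp_mono {P A B Z W : Scheme.{u}} {a : P ⟶ A} {b : P ⟶ B} {f : A ⟶ Z} {g : B ⟶ Z}
    (h : IsPullback a b f g) (m : Z ⟶ W) [Mono m] : IsPullback a b (f ≫ m) (g ≫ m) :=
  .of_isLimit' ⟨by rw [h.w_assoc]⟩ (PullbackCone.IsLimit.mk _
    (fun s => h.lift s.fst s.snd ((cancel_mono m).1 (by simpa only [Category.assoc] using s.condition)))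
    (fun s => h.lift_fst _ _ _) (fun s => h.lift_snd _ _ _)
    fun s l h₁ h₂ => h.hom_ext (h₁.trans (h.lift_fst _ _ _).symm) (h₂.trans (h.lift_snd _ _ _).symm))

/-- Reduction modulo an ideal as a pushout of rings. -/
theorem isPushout_quotient {A R : CommRingCat.{u}} (φ : A ⟶ R) (I : Ideal A) (J : Ideal R) (h : J = I.map φ.hom) :
    ∃ ψ : CommRingCat.of (A ⧸ I) ⟶ CommRingCat.of (R ⧸ J),
      IsPushout φ (CommRingCat.ofHom (Ideal.Quotient.mk I) : A ⟶ CommRingCat.of (A ⧸ I))
        (CommRingCat.ofHom (Ideal.Quotient.mk J) : R ⟶ CommRingCat.of (R ⧸ J)) ψ := by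
  have hle : I ≤ Ideal.comap φ.hom J := h ▸ Ideal.le_comap_map
  let ψ₀ : A ⧸ I →+* R ⧸ J :=
    Ideal.Quotient.lift I ((Ideal.Quotient.mk J).comp φ.hom) fun a ha => Ideal.Quotient.eq_zero_iff_mem.2 (hle ha)
  let π : A ⟶ CommRingCat.of (A ⧸ I) := CommRingCat.ofHom (Ideal.Quotient.mk I)
  let μ : R ⟶ CommRingCat.of (R ⧸ J) := CommRingCat.ofHom (Ideal.Quotient.mk J)
  refine ⟨CommRingCat.ofHom ψ₀, ?_⟩
  have hw : φ ≫ μ = π ≫ CommRingCat.ofHom ψ₀ := CommRingCat.hom_ext (RingHom.ext fun a => rfl)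
  have hker : ∀ s : PushoutCocone φ π, J ≤ RingHom.ker s.inl.hom := fun s => by
    rw [h, Ideal.map_le_iff_le_comap]
    intro a ha
    rw [Ideal.mem_comap, RingHom.mem_ker]
    have hs := congrArg (fun f => f.hom a) s.condition
    refine hs.trans ?_
    show s.inr.hom (Ideal.Quotient.mk I a) = 0
    rw [Ideal.Quotient.eq_zero_iff_mem.2 ha]
    exact map_zero _
  refine .of_isColimit' ⟨hw⟩ (PushoutCocone.IsColimit.mk _
    (fun s => CommRingCat.ofHom (Ideal.Quotient.lift J s.inl.hom fun a ha => RingHom.mem_ker.1 (hker s ha)))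
    (fun s => CommRingCat.hom_ext (RingHom.ext fun a => rfl))
    (fun s => CommRingCat.hom_ext (RingHom.ext fun a => ?_))
    fun s l h₁ _ => CommRingCat.hom_ext (RingHom.ext fun a => ?_))
  · obtain ⟨b, rfl⟩ := Ideal.Quotient.mk_surjective a
    exact congrArg (fun f => f.hom b) s.condition
  · obtain ⟨b, rfl⟩ := Ideal.Quotient.mk_surjective a
    exact congrArg (fun f => f.hom b) h₁

/-- A power of a maximal ideal cuts out a closed subscheme at one closed point. -/
theorem isClosedImmersion_thick {X : Scheme.{u}} [JacobsonSpace X] {A : CommRingCat.{u}} (j : Spec A ⟶ X)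
    [IsOpenImmersion j] (m : Ideal A) [hm : m.IsMaximal] (e : ℕ) :
    IsClosedImmersion (Spec.map (CommRingCat.ofHom (Ideal.Quotient.mk (m ^ (e + 1))) : A ⟶ CommRingCat.of (A ⧸ m ^ (e + 1))) ≫ j) ∧
      IsClosed ({j (⟨m, hm.isPrime⟩ : Spec A)} : Set X) ∧
      Set.range (Spec.map (CommRingCat.ofHom (Ideal.Quotient.mk (m ^ (e + 1))) : A ⟶ CommRingCat.of (A ⧸ m ^ (e + 1))) ≫ j) =
        {j (⟨m, hm.isPrime⟩ : Spec A)} := by
  let π : A ⟶ CommRingCat.of (A ⧸ m ^ (e + 1)) := CommRingCat.ofHom (Ideal.Quotient.mk (m ^ (e + 1)))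
  haveI : IsClosedImmersion (Spec.map π) := IsClosedImmersion.spec_of_surjective π Ideal.Quotient.mk_surjective
  let z : Spec A := ⟨m, hm.isPrime⟩
  have hzc : IsClosed ({z} : Set (Spec A)) := (PrimeSpectrum.isClosed_singleton_iff_isMaximal z).2 hm
  have hxc : IsClosed ({j z} : Set X) := by
    have h : z ∈ j ⁻¹' closedPoints X := by
      rw [j.isOpenEmbedding.preimage_closedPoints]
      exact hzc
    exact h
  have hr : Set.range (Spec.map π ≫ j) = {j z} := by
    have h1 : Set.range (Spec.map π) = {z} := by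
      show Set.range (PrimeSpectrum.comap π.hom) = _
      rw [range_comap_of_surjective _ π.hom Ideal.Quotient.mk_surjective]
      simp only [π, CommRingCat.hom_ofHom, Ideal.mk_ker]
      rw [PrimeSpectrum.zeroLocus_pow m (Nat.succ_ne_zero e), ← PrimeSpectrum.closure_singleton z]
      exact hzc.closure_eq
    rw [Scheme.Hom.comp_base, TopCat.coe_comp, Set.range_comp, h1, Set.image_singleton]
  exact ⟨.of_isPreimmersion _ (by rw [hr]; exact hxc), hxc, hr⟩

/-- Derived restriction of a finite free complex to a closed subscheme of an affine. -/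
theorem exactAt_of_isZero_lP {R S : CommRingCat.{u}} (ψ : R ⟶ S) (P : DRing.Cx R) {a b : ℤ}
    (hP : DRing.VanishesOutside P a b) (hF : DRing.TermwiseFiniteFree P) (i : ℤ)
    (h : IsZero (DCoh.HD ((lP (Spec.map ψ)).obj (DCoh.toD (Spec R) ((tildeX R).obj P))) i)) :
    ((extCx ψ.hom).obj P).ExactAt i := by
  haveI := KFlat.Sch.hasLpull (Spec.map ψ)
  obtain ⟨n⟩ := nonempty_lpull_natIso_lP (Spec.map ψ)
  have hflat : ∀ l, KFlat.IsFlat (KFlat.Sch.TX (Spec R)) (((tildeX R).obj P).X l) := fun l =>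
    (KFlat.Sch.isFlat_iff _).2 (have := (hF l).2; DPerf.isFlat_tilde (N := P.X l))
  haveI : ((tildeX R).obj P).IsStrictlyLE b := (CochainComplex.isStrictlyLE_iff _ b).2 fun l hl =>
    (tilde.functor R).map_isZero (hP l (Or.inr hl))
  have hA := KFlat.Sch.isAdapted_of_boundedAbove ((tildeX R).obj P) b hflat
  let eC : ((Scheme.Modules.pullback (Spec.map ψ)).mapHomologicalComplex (ComplexShape.up ℤ)).obj
      ((tildeX R).obj P) ≅ (tildeX S).obj ((extCx ψ.hom).obj P) :=
    HomologicalComplex.Hom.isoOfComponents (fun l => (M1.tildePullbackIso ψ).app (P.X l))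
      (fun l l' _ => ((M1.tildePullbackIso ψ).hom.naturality (P.d l l')).symm)
  rw [HomologicalComplex.exactAt_iff_isZero_homology]
  refine DPerf.isZero_of_tilde (h.of_iso ?_)
  let Q' := (extCx ψ.hom).obj P
  let e1 : DCoh.HD (DCoh.toD (Spec S) ((tildeX S).obj Q')) i ≅ (tilde.functor S).obj (Q'.homology i) :=
    (DerivedCategory.homologyFunctorFactors _ i).app _ ≪≫ (Q'.sc i).mapHomologyIso (tilde.functor S)
  exact e1.symm ≪≫ (DerivedCategory.homologyFunctor _ i).mapIso ((n.app _).symm ≪≫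
    KFlat.Sch.lpullObjIso (Spec.map ψ) _ hA ≪≫ DerivedCategory.Q.mapIso eC).symm

variable {k : Type u} [Field k] {X Y P : Scheme.{u}} (a : X ⟶ Spec (CommRingCat.of k)) [LocallyOfFiniteType a]
  (p : P ⟶ X) [Flat p] [LocallyOfFiniteType p] (q : P ⟶ Y) (b : Y ⟶ Spec (CommRingCat.of k))
  (hpq : IsPullback p q a b)

include hpq in
/-- Cohomology sheaves of a perfect object vanish when they do on all thickened closed slices. -/
theorem isZero_HD_of_slices (C : DCoh.D P) (hC : DCoh.IsPerfect C) (i : ℤ)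
    [∀ F : X.Modules, DCoh.HasLTensorMod ((Scheme.Modules.pullback p).obj F)]
    (h : ∀ F : X.Modules, Coh.IsCoh F → (CohB1.support F).Finite →
      (∀ x ∈ CohB1.support F, IsClosed ({x} : Set X)) →
      IsZero (DCoh.HD ((DCoh.Rpush q).obj ((DCoh.LTensorMod ((Scheme.Modules.pullback p).obj F)).obj C)) i)) :
    IsZero (DCoh.HD C i) := by
  haveI : JacobsonSpace X := LocallyOfFiniteType.jacobsonSpace a
  haveI : IsLocallyNoetherian X := LocallyOfFiniteType.isLocallyNoetherian a
  haveI : JacobsonSpace P := LocallyOfFiniteType.jacobsonSpace (p ≫ a)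
  haveI : IsLocallyNoetherian P := LocallyOfFiniteType.isLocallyNoetherian p
  have hq : DCoh.IsQCohD C := DGen9.isQCohD_of_isPerfect hC
  have hcoh : Coh.IsCoh (DCoh.HD C i) :=
    DPerf.isCoh_HD_of_pseudoCoherent (DGen9.isPseudoCoherentD_of_isPerfect hC i) (hq i) le_rfl
  have hclosed : IsClosed (CohB1.support (DCoh.HD C i)) := by
    rw [← M1.support_annSheaf hcoh.1 hcoh.2]
    exact (M1.annSheaf hcoh.1 hcoh.2).support.isClosed
  refine DPerf.isZero_of_stalks fun w₀ => ?_
  by_contra hw₀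
  obtain ⟨w, hw, hwc⟩ : (CohB1.support (DCoh.HD C i) ∩ closedPoints P).Nonempty :=
    nonempty_inter_closedPoints ⟨w₀, hw₀⟩ hclosed.isLocallyClosed
  have hx : IsClosed ({p w} : Set X) := p.closePoints_subset_preimage_closedPoints hwc
  obtain ⟨U, hU, hxU, -⟩ := exists_isAffineOpen_mem_and_subset (x := p w) (U := ⊤) trivial
  let A := Γ(X, U)
  have hC₀ : DCoh.IsPerfect ((DPerf.resD (p ⁻¹ᵁ U).ι).obj C) :=
    DGen9.isPerfect_of_iso ((lPRes _).app C) (PerfPush9.isPerfect_lP _ hC)
  obtain ⟨R, j₀, hj₀, Pc, lo, hi, _, hwj, hP, hF, α, hα⟩ :=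
    DPerf.exists_perfect_chart hC₀ (⟨w, hxU⟩ : (p ⁻¹ᵁ U : P.Opens))
  haveI := hj₀
  haveI := DPerf.isIso_of_dcond_univ hα
  obtain ⟨z₀, hz₀⟩ := hwj
  let j : Spec R ⟶ P := j₀ ≫ (p ⁻¹ᵁ U).ι
  have hjz : j z₀ = w := by
    change (j₀ ≫ (p ⁻¹ᵁ U).ι) z₀ = w
    rw [Scheme.Hom.comp_apply, hz₀]
    rfl
  haveI : IsLocallyNoetherian (Spec R) := LocallyOfFiniteType.isLocallyNoetherian j
  haveI : IsNoetherianRing R := (isLocallyNoetherian_Spec).1 inferInstance
  let φ : A ⟶ R := Spec.preimage (j₀ ≫ (p ∣_ U) ≫ hU.isoSpec.hom)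
  have hφ : Spec.map φ ≫ hU.fromSpec = j ≫ p := by
    rw [Spec.map_preimage, Category.assoc, Category.assoc, hU.isoSpec_hom_fromSpec, morphismRestrict_ι,
      ← Category.assoc]
  let zx : Spec A := Spec.map φ z₀
  have hzx : hU.fromSpec zx = p w := by
    change hU.fromSpec (Spec.map φ z₀) = _
    rw [← Scheme.Hom.comp_apply, hφ, Scheme.Hom.comp_apply, hjz]
  let m : Ideal A := zx.asIdeal
  haveI hm : m.IsMaximal := by
    rw [← PrimeSpectrum.isClosed_singleton_iff_isMaximal zx]
    have : ({zx} : Set (Spec A)) = hU.fromSpec ⁻¹' {p w} := by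
      ext y
      constructor
      · rintro rfl; exact hzx
      · intro hy
        exact hU.fromSpec.isOpenEmbedding.injective ((Set.mem_preimage.1 hy : hU.fromSpec y = p w).trans hzx.symm)
    rw [this]
    exact hx.preimage hU.fromSpec.continuous
  have hmn : m.map φ.hom ≤ z₀.asIdeal := Ideal.map_le_iff_le_comap.2 le_rfl
  let eC : (lP j).obj C ≅ DCoh.toD (Spec R) ((tildeX R).obj Pc) :=
    ((lPComp j₀ (p ⁻¹ᵁ U).ι rfl).app C).symm ≪≫ (lP j₀).mapIso ((lPRes _).app C) ≪≫ (lPRes j₀).app _ ≪≫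
      (asIso α).symm
  have hex : ∀ e : ℕ, ((extCx (algebraMap R (R ⧸ (m.map φ.hom) ^ (e + 1)))).obj Pc).ExactAt i := fun e => by
    obtain ⟨ψ, hpo⟩ := isPushout_quotient φ (m ^ (e + 1)) ((m.map φ.hom) ^ (e + 1)) (Ideal.map_pow φ.hom m (e + 1)).symm
    let μ : R ⟶ CommRingCat.of (R ⧸ (m.map φ.hom) ^ (e + 1)) := CommRingCat.ofHom (Ideal.Quotient.mk _)
    let π : A ⟶ CommRingCat.of (A ⧸ m ^ (e + 1)) := CommRingCat.ofHom (Ideal.Quotient.mk _)
    let jT := Spec.map π ≫ hU.fromSpec
    obtain ⟨hcl, hxc, hr⟩ := isClosedImmersion_thick hU.fromSpec m e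
    haveI : IsClosedImmersion jT := hcl
    have hsupp : CohB1.support ((Coh.push jT).obj (Coh.structureModule _)) ⊆ {hU.fromSpec (⟨m, hm.isPrime⟩ : Spec A)} :=
      (CohFound.support_push_subset jT _).trans hr.le
    have h0 := h ((Coh.push jT).obj (Coh.structureModule _))
      (CohFound.isCoh_push_closedImm jT (M1.isCoh_structureModule _)) ((Set.finite_singleton _).subset hsupp)
      (fun x hx' => by rw [Set.mem_singleton_iff.1 (hsupp hx')]; exact hxc)
    obtain ⟨sl⟩ := nonempty_slice p q jT C hq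
    let ι' := Limits.pullback.fst p jT
    have hg : IsPullback (ι' ≫ q) (Limits.pullback.snd p jT) b (jT ≫ a) :=
      (IsPullback.of_hasPullback p jT).paste_horiz hpq.flip
    haveI : IsAffineHom (ι' ≫ q) := MorphismProperty.of_isPullback hg.flip (inferInstance : IsAffineHom (jT ≫ a))
    have hL : IsZero (DCoh.HD ((lP ι').obj C) i) :=
      isZero_HD_of_rpush (ι' ≫ q) _ (isQCohD_lP ι' hq) i
        (h0.of_iso ((DerivedCategory.homologyFunctor _ i).mapIso sl).symm)
    have big : IsPullback (Spec.map μ) (Spec.map ψ) (j ≫ p) jT :=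
      hφ ▸ comp_mono (isPullback_SpecMap_of_isPushout _ _ _ _ hpo) hU.fromSpec
    have hsq := IsPullback.of_right' big.flip (IsPullback.of_hasPullback p jT).flip
    haveI := MorphismProperty.of_isPullback (P := @IsOpenImmersion) hsq.flip inferInstance
    let w' := (IsPullback.of_hasPullback p jT).flip.lift (Spec.map ψ) (Spec.map μ ≫ j)
      (big.w.symm.trans (Category.assoc _ _ _).symm)
    have hsw : w' ≫ ι' = Spec.map μ ≫ j := (IsPullback.of_hasPullback p jT).flip.lift_snd _ _ _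
    refine exactAt_of_isZero_lP μ Pc hP hF i ?_
    refine (((Scheme.Modules.restrictFunctor w').map_isZero hL).of_iso (DPerf.hdResIso w' _ i)).of_iso ?_
    exact (DerivedCategory.homologyFunctor _ i).mapIso ((lP (Spec.map μ)).mapIso eC.symm ≪≫
      (lPComp (Spec.map μ) j rfl).app C ≪≫ ((lPComp w' ι' hsw).app C).symm ≪≫ (lPRes w').app _)
  refine hw ?_
  let H := Pc.homology i
  let eH : (DCoh.HD C i).restrict j ≅ (tilde.functor R).obj H :=
    (DPerf.hdResIso j C i).symm ≪≫ (DerivedCategory.homologyFunctor _ i).mapIso (((lPRes j).app C).symm ≪≫ eC) ≪≫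
      (DerivedCategory.homologyFunctorFactors _ i).app _ ≪≫ (Pc.sc i).mapHomologyIso (tilde.functor R)
  haveI : Module.Finite R (Pc.X i) := (hF i).1
  have hsub : Subsingleton ((tilde H).presheaf.stalk z₀) := by
    haveI : IsLocalizedModule z₀.asIdeal.primeCompl (tilde.toStalk H z₀).hom :=
      inferInstanceAs (IsLocalizedModule z₀.asIdeal.primeCompl (StructureSheaf.toStalkₗ ..))
    refine subsingleton_of_forall_eq 0 fun t => ?_
    obtain ⟨⟨t₀, s⟩, hs⟩ := IsLocalizedModule.surj z₀.asIdeal.primeCompl (tilde.toStalk H z₀).hom t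
    obtain ⟨c, hc⟩ := DMod.homologyπ_surjective Pc i t₀
    have hz : Pc.d i (i + 1) (Pc.iCycles i c) = 0 := DMod.d_iCycles i (i + 1) c
    obtain ⟨s', hs', y, hy⟩ := exists_smul_mem_boundaries Pc i (m.map φ.hom) z₀.asIdeal z₀.2 hmn hex _ hz
    have ht₀ : s' • t₀ = 0 := by
      have hcy : s' • c = Pc.toCycles (i - 1) i y := by
        refine DMod.iCycles_injective _ i ?_
        rw [map_smul, ← hy]
        exact (congrArg (fun f => f.hom y) (Pc.toCycles_i (i - 1) i)).symm
      rw [← hc, ← map_smul, hcy]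
      exact congrArg (fun f => f.hom y) (Pc.toCycles_comp_homologyπ (i - 1) i)
    have h1 : ((⟨s', hs'⟩ : z₀.asIdeal.primeCompl) * s) • t = 0 := by
      rw [mul_smul]
      have hs1 : s • t = (tilde.toStalk H z₀).hom t₀ := hs
      rw [hs1, Submonoid.smul_def, ← map_smul, ht₀, map_zero]
    exact (IsLocalizedModule.smul_inj (tilde.toStalk H z₀).hom _ t 0).1 (h1.trans (smul_zero _).symm)
  have hst : RHom.StalkZero z₀ ((DCoh.HD C i).restrict j) :=
    RHom.stalkZero_iso eH.symm (by
      haveI : Subsingleton ((M1.stalkAb z₀).obj ((tilde.functor R).obj H)) := hsub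
      exact AddCommGrpCat.isZero_of_subsingleton _)
  have := AddCommGrpCat.subsingleton_of_isZero ((RHom.stalkZero_restrict_iff j z₀ _).1 hst)
  rw [hjz] at this
  exact this

end Groth.Agent.PtBd9
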